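import Groth.Agent.AlgSpLib.Descend
import Groth.Agent.AlgSpLib.FormalLocal
import Groth.Agent.AlgSpLib.Sep
import Mathlib.AlgebraicGeometry.Morphisms.FormallyUnramified
import Mathlib.FieldTheory.IsAlgClosed.AlgebraicClosure

/-!
# Descent along etale covers with transitive deck transformations
-/

set_option autoImplicit false
set_option backward.isDefEq.respectTransparency false
set_option backward.isDefEq.respectTransparency.types false

universe w u

open CategoryTheory CategoryTheory.Limits AlgebraicGeometry Opposite AlgSp

noncomputable section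

namespace MultiSecLib

open AlgSpLib

variable {S : Scheme.{u}}

/-- An invariant morphism descends along an etale cover with geometrically transitive deck transformations. -/
theorem exists_desc_of_orbit {O Y : Over S} (π : O ⟶ Y) [Etale π.left] [Surjective π.left] {F : Sp S}
    {G : Type w} (σ : G → (O ⟶ O)) (hσ : ∀ g, σ g ≫ π = π)
    (htr : ∀ (K : Type u) [Field K] [IsAlgClosed K] (a b : Spec (CommRingCat.of K) ⟶ O.left),
      a ≫ π.left = b ≫ π.left → ∃ g, a ≫ (σ g).left = b)
    (x : (yon S).obj O ⟶ F) (hx : ∀ g, (yon S).map (σ g) ≫ x = x) :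
    ∃ y : (yon S).obj Y ⟶ F, (yon S).map π ≫ y = x := by
  refine exists_desc_of_atlas ((repWith_yon_map_iff (P := (@Etale : MorphismProperty Scheme.{u})) π).2 inferInstance)
    ((repWith_yon_map_iff (P := @Surjective) π).2 inferInstance) x fun Z g g' e => ?_
  have hgg : g ≫ π = g' ≫ π := (yon S).map_injective (by simpa only [Functor.map_comp] using e)
  -- the points where a given deck transformation relates the two maps
  let L : ∀ γ : G, Z.left ⟶ pullback π.left π.left := fun γ =>
    pullback.lift (g ≫ σ γ).left g'.left (by
      rw [← Over.comp_left, ← Over.comp_left, Category.assoc, hσ, hgg])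
  have hcov : ∀ z : Z.left, ∃ γ : G, z ∈ Set.range (pullback.snd (pullback.diagonal π.left) (L γ)) := by
    intro z
    let K := AlgebraicClosure (Z.left.residueField z)
    let ξ : Spec (CommRingCat.of K) ⟶ Z.left :=
      Spec.map (CommRingCat.ofHom (algebraMap (Z.left.residueField z) K)) ≫ Z.left.fromSpecResidueField z
    obtain ⟨γ, hγ⟩ := htr K (ξ ≫ g.left) (ξ ≫ g'.left) (by
      simp only [Category.assoc, ← Over.comp_left, hgg])
    refine ⟨γ, (pullback.lift (f := pullback.diagonal π.left) (g := L γ) (ξ ≫ g'.left) ξ ?_)
      (IsLocalRing.closedPoint K), ?_⟩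
    · apply pullback.hom_ext
      · simp only [Category.assoc, pullback.diagonal_fst, Category.comp_id, L, pullback.lift_fst, Over.comp_left]
        rw [← Category.assoc ξ, hγ]
      · simp only [Category.assoc, pullback.diagonal_snd, Category.comp_id, L, pullback.lift_snd]
    · rw [← Scheme.Hom.comp_apply, pullback.lift_snd]
      simp only [ξ, Scheme.Hom.comp_apply]
      exact Scheme.fromSpecResidueField_apply _ _
  choose γ hγ using hcov
  let Tk : Z.left → Over S := fun z => Over.mk (pullback.snd (pullback.diagonal π.left) (L (γ z)) ≫ Z.hom)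
  let c : ∀ z, Tk z ⟶ Z := fun z => Over.homMk (pullback.snd (pullback.diagonal π.left) (L (γ z))) rfl
  haveI : ∀ z, IsOpenImmersion (c z).left := fun z =>
    inferInstanceAs (IsOpenImmersion (pullback.snd (pullback.diagonal π.left) (L (γ z))))
  refine hom_ext_of_cover c (fun z => inferInstance) (fun z => inferInstance) (fun z => ⟨z, hγ z⟩) fun z => ?_
  have hL : c z ≫ g ≫ σ (γ z) = c z ≫ g' := by
    apply Over.OverMorphism.ext
    simp only [Over.comp_left, c, Over.homMk_left]
    have h := pullback.condition (f := pullback.diagonal π.left) (g := L (γ z))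
    have h₁ := congrArg (fun t => t ≫ pullback.fst _ _) h
    have h₂ := congrArg (fun t => t ≫ pullback.snd _ _) h
    simp only [Category.assoc, pullback.diagonal_fst, pullback.diagonal_snd, Category.comp_id, L,
      pullback.lift_fst, pullback.lift_snd, Over.comp_left] at h₁ h₂
    exact h₁.symm.trans h₂
  calc (yon S).map (c z) ≫ (yon S).map g ≫ x
      = (yon S).map (c z ≫ g ≫ σ (γ z)) ≫ x := by simp only [Functor.map_comp, Category.assoc, hx]
    _ = (yon S).map (c z) ≫ (yon S).map g' ≫ x := by rw [hL, Functor.map_comp, Category.assoc]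

end MultiSecLib
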