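import Groth.Agent.AVAmpleLib.SectionCount
import Groth.Agent.MiscFlat6.FinCond
import Groth.Agent.HenselLib.FiniteDecomp
import Groth.Agent.WeightLib.EtaleQF
import Mathlib.AlgebraicGeometry.ZariskisMainTheorem
import Mathlib.RingTheory.Etale.QuasiFinite
import Mathlib.RingTheory.TensorProduct.Maps

/-!
# Finite pieces of etale algebras and affine neighbourhoods of finite sets
-/

set_option autoImplicit false
set_option backward.isDefEq.respectTransparency false
set_option backward.isDefEq.respectTransparency.types false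

universe u

open CategoryTheory CategoryTheory.Limits AlgebraicGeometry TensorProduct TopologicalSpace

noncomputable section

namespace MultiSecLib

/-- An etale algebra over a Henselian local ring has a finite open and closed piece at a point over the closed point. -/
theorem exists_idem_finite (A : Type u) [CommRing A] [HenselianLocalRing A] (B : Type u) [CommRing B] [Algebra A B]
    [Algebra.Etale A B] (q : Ideal B) [q.IsPrime] (hq : q.comap (algebraMap A B) = IsLocalRing.maximalIdeal A) :
    ∃ e : B, IsIdempotentElem e ∧ e ∉ q ∧ Module.Finite A (B ⧸ Ideal.span ({1 - e} : Set B)) := by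
  obtain ⟨e, he, hfin, hnq⟩ := HenselLib.exists_idem_quasiFinite (A := A) (B := B)
  refine ⟨e, he, fun h => ?_, hfin⟩
  have hle : Ideal.span {e} ≤ q := (Ideal.span_singleton_le_iff_mem _).2 h
  have hcm : (q.map (Ideal.Quotient.mk (Ideal.span {e}))).comap (Ideal.Quotient.mk (Ideal.span {e})) = q := by
    rw [Ideal.comap_map_of_surjective _ Ideal.Quotient.mk_surjective, ← RingHom.ker_eq_comap_bot, Ideal.mk_ker,
      sup_eq_left.2 hle]
  haveI := Ideal.map_isPrime_of_surjective (f := Ideal.Quotient.mk (Ideal.span {e})) Ideal.Quotient.mk_surjective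
    (by rw [Ideal.mk_ker]; exact hle) (I := q)
  haveI : (q.map (Ideal.Quotient.mk (Ideal.span {e}))).LiesOver q := ⟨hcm.symm⟩
  haveI : Algebra.QuasiFiniteAt A (q.map (Ideal.Quotient.mk (Ideal.span {e}))) :=
    Algebra.QuasiFiniteAt.of_surjectiveOnStalks_of_liesOver q
      (RingHom.surjectiveOnStalks_of_surjective Ideal.Quotient.mk_surjective) _
  refine hnq (q.map (Ideal.Quotient.mk (Ideal.span {e}))) ⟨?_⟩ inferInstance
  rw [Ideal.under, IsScalarTower.algebraMap_eq A B (B ⧸ _), ← Ideal.comap_comap, Ideal.Quotient.algebraMap_eq,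
    hcm, hq]

/-- The number of geometric points of a finite etale algebra over a local ring. -/
theorem natCard_algHom_geom (A : Type u) [CommRing A] [IsLocalRing A] (B : Type u) [CommRing B] [Algebra A B]
    [Module.Finite A B] [Algebra.Etale A B] (K : Type u) [Field K] [IsAlgClosed K] [Algebra A K] :
    Nat.card (B →ₐ[A] K) = Module.finrank A B := by
  haveI : Module.Free A B := Module.free_of_flat_of_isLocalRing
  rw [Nat.card_congr (Algebra.TensorProduct.liftEquivRight A K B K),
    AVAmpleLib.natCard_algHom (k := K) (K ⊗[A] B), Module.finrank_baseChange]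

/-- Finitely many points of a separated etale scheme over an affine scheme lie in an affine open. -/
theorem exists_affine_of_finite_etale {V U : Scheme.{u}} [IsAffine U] (f : V ⟶ U) [Etale f] [IsSeparated f]
    (W : V.Opens) (E : Set V) (hE : E.Finite) (hEW : E ⊆ W) :
    ∃ O : V.Opens, IsAffineOpen O ∧ O ≤ W ∧ E ⊆ O := by
  classical
  choose N hN hxN hNW using fun x : E =>
    Opens.isBasis_iff_nbhd.1 V.isBasis_affineOpens (show x.1 ∈ W from hEW x.2)
  haveI := hE.to_subtype
  let V₁ : V.Opens := ⨆ x : E, N x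
  have hc : IsCompact (V₁ : Set V) := by
    simp only [V₁, Opens.coe_iSup]
    exact isCompact_iUnion fun x => (hN x).isCompact
  haveI : CompactSpace V₁.toScheme := isCompact_iff_compactSpace.mp hc
  let f₁ := V₁.ι ≫ f
  haveI : QuasiCompact f₁ := (quasiCompact_iff_compactSpace f₁).2 inferInstance
  haveI : LocallyQuasiFinite f₁ := WeightLib.locallyQuasiFinite_of_etale f₁
  haveI : IsAffine f₁.normalization := isAffine_of_isAffineHom f₁.fromNormalization
  obtain ⟨O', hO', hEO⟩ := MiscFlat6.exists_affineOpen_of_finite f₁.toNormalization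
    (V₁.ι ⁻¹' E) (hE.preimage V₁.ι.isOpenEmbedding.injective.injOn)
  refine ⟨V₁.ι ''ᵁ O', hO'.image_of_isOpenImmersion _, ?_, fun x hx => ?_⟩
  · rintro _ ⟨y, -, rfl⟩
    obtain ⟨i, hi⟩ := Opens.mem_iSup.1 y.2
    exact hNW i hi
  · have : x ∈ V₁ := Opens.mem_iSup.2 ⟨⟨x, hx⟩, hxN ⟨x, hx⟩⟩
    exact ⟨⟨x, this⟩, hEO hx, rfl⟩

end MultiSecLib
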