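import Groth.Agent.MultiSecLib.Lift
import Groth.Agent.AlgSpLib.DecentTop
import Groth.Agent.AlgSpLib.FormalLocal
import Groth.Agent.BootLib.SepSigma

/-!
# A separated etale chart through which all points over Henselian local rings factor
-/

set_option autoImplicit false
set_option backward.isDefEq.respectTransparency false
set_option backward.isDefEq.respectTransparency.types false

universe u

open CategoryTheory CategoryTheory.Limits AlgebraicGeometry Opposite AlgSp

noncomputable section

namespace MultiSecLib

open AlgSpLib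

variable {S : Scheme.{u}} {X : Sp S}

lemma isSeparated_hom_of_isAffine (U : Over S) [IsAffine U.left] : IsSeparated U.hom := by
  haveI : IsSeparated (U.hom ≫ terminal.from S) := by rw [terminal.comp_from]; infer_instance
  exact IsSeparated.of_comp U.hom (terminal.from S)

/-- The affine open piece of an atlas. -/
abbrev piece₀ (U : Over S) (i : U.left.affineOpens) : Over S := Over.mk (i.1.ι ≫ U.hom)

/-- Every point over a Henselian local ring lifts to one of countably many kinds of affine charts. -/
theorem exists_affine_chart_lift (hX : IsAlgSpace X) {U : Over S} {q : (yon S).obj U ⟶ X} (hq : RepWith @Etale q)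
    (hqs : RepWith @Surjective q) (A : Type u) [CommRing A] [HenselianLocalRing A]
    (str : Spec (CommRingCat.of A) ⟶ S) (z : (yon S).obj (Over.mk str) ⟶ X) :
    ∃ (i : U.left.affineOpens) (hs : IsSeparated (piece₀ U i).hom)
      (hp : RepWith @Etale ((yon S).map (Over.homMk i.1.ι rfl : piece₀ U i ⟶ U) ≫ q)) (n : ℕ)
      (P : haveI := hs; Piece (tup hX hp n))
      (g : Over.mk str ⟶ (haveI := hs; P.Z)), haveI := hs; (yon S).map g ≫ P.chart = z := by
  obtain ⟨W, a, b, sq⟩ := exists_isPullback_yon q z (hX.representable_from_yon q)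
  haveI : Surjective b.left := (repWith_yon_map_iff (P := @Surjective) b).1 (repWith_of_isPullback sq hqs)
  obtain ⟨w, hw⟩ := b.left.surjective (IsLocalRing.closedPoint A)
  obtain ⟨Bo, hBo, hwB, -⟩ :=
    TopologicalSpace.Opens.isBasis_iff_nbhd.1 U.left.isBasis_affineOpens
      (show a.left w ∈ (⊤ : U.left.Opens) from trivial)
  let i : U.left.affineOpens := ⟨Bo, hBo⟩
  let ι₀ : piece₀ U i ⟶ U := Over.homMk i.1.ι rfl
  haveI : IsAffine (piece₀ U i).left := hBo
  haveI hs := isSeparated_hom_of_isAffine (piece₀ U i)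
  haveI : IsOpenImmersion ι₀.left := inferInstanceAs (IsOpenImmersion i.1.ι)
  have hp : RepWith @Etale ((yon S).map ι₀ ≫ q) :=
    repWith_comp ((repWith_yon_map_iff (P := (@Etale : MorphismProperty Scheme.{u})) ι₀).2 inferInstance) hq
  have sq' : IsPullback ((yon S).map (pullback.fst ι₀ a)) ((yon S).map (pullback.snd ι₀ a ≫ b))
      ((yon S).map ι₀ ≫ q) z := by
    rw [Functor.map_comp]
    exact (((IsPullback.of_hasPullback ι₀ a).map (yon S)).flip.paste_horiz sq.flip).flip
  have hw' : w ∈ Set.range (pullback.snd ι₀ a).left := by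
    have : a.left w ∈ Set.range ι₀.left := by
      change a.left w ∈ Set.range i.1.ι
      rw [Scheme.Opens.range_ι]; exact hwB
    obtain ⟨x, hx⟩ := this
    obtain ⟨y, -, hy⟩ := Scheme.exists_preimage_of_isPullback (left_isPullback ι₀ a) x w hx
    exact ⟨y, hy⟩
  obtain ⟨w', hw'⟩ := hw'
  obtain ⟨n, P, g, hg⟩ := exists_piece_lift hX hp A str z sq' w' (by
    rw [Over.comp_left, Scheme.Hom.comp_apply, hw', hw])
  exact ⟨i, hs, hp, n, P, g, hg⟩

/-- The index of the pieces. -/
structure Idx (hX : IsAlgSpace X) (U : Over S) (q : (yon S).obj U ⟶ X) : Type u where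
  i : U.left.affineOpens
  hs : IsSeparated (piece₀ U i).hom
  hp : RepWith @Etale ((yon S).map (Over.homMk i.1.ι rfl : piece₀ U i ⟶ U) ≫ q)
  n : ℕ
  P : haveI := hs; Piece (tup hX hp n)

/-- The scheme of an index. -/
def Idx.Z {hX : IsAlgSpace X} {U : Over S} {q : (yon S).obj U ⟶ X} (k : Idx hX U q) : Over S :=
  haveI := k.hs; k.P.Z

/-- The chart of an index. -/
def Idx.chart {hX : IsAlgSpace X} {U : Over S} {q : (yon S).obj U ⟶ X} (k : Idx hX U q) :
    (yon S).obj k.Z ⟶ X :=
  haveI := k.hs; k.P.chart

/-- One separated etale chart through which all points over Henselian local rings factor. -/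
theorem exists_separated_chart (hX : IsAlgSpace X) :
    ∃ (Z : Over S) (p : (yon S).obj Z ⟶ X), IsSeparated Z.hom ∧ RepWith @Etale p ∧
      ∀ (A : Type u) [CommRing A] [HenselianLocalRing A] (str : Spec (CommRingCat.of A) ⟶ S)
        (z : (yon S).obj (Over.mk str) ⟶ X), ∃ g : Over.mk str ⟶ Z, (yon S).map g ≫ p = z := by
  obtain ⟨U, q, hq, hqs⟩ := hX.atlas
  let ι := Idx hX U q
  haveI : ∀ k : ι, IsAffine k.Z.left := fun k => by haveI := k.hs; exact inferInstanceAs (IsAffine k.P.Z.left)
  haveI : ∀ k : ι, IsSeparated k.Z.hom := fun k => isSeparated_hom_of_isAffine k.Z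
  let F : ι → Scheme.{u} := fun k => k.Z.left
  let Z : Over S := Over.mk (Sigma.desc fun k : ι => k.Z.hom)
  let c : ∀ k : ι, k.Z ⟶ Z := fun k => Over.homMk (Sigma.ι F k) (Sigma.ι_desc _ k)
  haveI hco : ∀ k, IsOpenImmersion (c k).left := fun k => inferInstanceAs (IsOpenImmersion (Sigma.ι F k))
  have hcs : ∀ t : Z.left, ∃ k, t ∈ Set.range (c k).left := fun t => by
    obtain ⟨⟨k, x⟩, rfl⟩ := (sigmaMk F).surjective t
    exact ⟨k, x, (sigmaMk_mk F k x).symm⟩
  obtain ⟨p, hp⟩ := exists_amalgamation c (fun k => inferInstance) (fun k => inferInstance) hcs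
    (fun k => k.chart) fun i j T gi gj hg => by
      by_cases hij : i = j
      · subst hij
        have : gi = gj := Over.OverMorphism.ext ((cancel_mono (c i).left).1 (congrArg (fun t => t.left) hg))
        rw [this]
      · haveI : IsEmpty T.left := ⟨fun t => by
          have h := congrArg (fun m : T ⟶ Z => m.left t) hg
          simp only [Over.comp_left, Scheme.Hom.comp_apply] at h
          exact hij (congrArg Sigma.fst ((sigmaMk F).injective
            (a₁ := ⟨i, gi.left t⟩) (a₂ := ⟨j, gj.left t⟩) (by rw [sigmaMk_mk, sigmaMk_mk]; exact h)))⟩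
        exact hom_ext_of_cover (κ := PEmpty.{u + 1}) (Tk := fun k => k.elim) (fun k => k.elim) (fun k => k.elim)
          (fun k => k.elim) (fun t => isEmptyElim t) fun k => k.elim
  have hke : ∀ k : ι, RepWith @Etale k.chart := fun k => by
    haveI := k.hs
    exact k.P.repWith_chart hX k.hp
  refine ⟨Z, p, ?_, ⟨hX.representable_from_yon p, fun T W g fst snd sq => ?_⟩, fun A _ _ str z => ?_⟩
  · exact Groth.Agent.Boot.isSeparated_sigmaDesc _
  · obtain ⟨f, rfl⟩ := (yon S).map_surjective fst
    let m : ∀ k : ι, pullback (c k) f ⟶ W := fun k => pullback.snd (c k) f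
    have hopen : ∀ k, IsOpenImmersion (m k).left := fun k =>
      MorphismProperty.of_isPullback (left_isPullback (c k) f) (hco k)
    have het : ∀ k, Etale ((m k).left ≫ snd.left) := fun k => by
      rw [← Over.comp_left]
      refine (repWith_yon_map_iff (P := (@Etale : MorphismProperty Scheme.{u})) _).1
        (repWith_of_isPullback (fst := (yon S).map (pullback.fst (c k) f)) (f := k.chart) (g := g) ?_ (hke k))
      rw [Functor.map_comp, ← hp k]
      exact (((IsPullback.of_hasPullback (c k) f).map (yon S)).flip.paste_horiz sq.flip).flip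
    exact IsZariskiLocalAtSource.of_openCover (P := @Etale)
      { I₀ := ι
        X := fun k => (pullback (c k) f).left
        f := fun k => (m k).left
        mem₀ := by
          rw [Scheme.presieve₀_mem_precoverage_iff]
          refine ⟨fun x => ?_, hopen⟩
          obtain ⟨k, y, hy⟩ := hcs (f.left x)
          obtain ⟨v, -, hv⟩ := Scheme.exists_preimage_of_isPullback (left_isPullback (c k) f) y x hy
          exact ⟨k, v, hv⟩ } het
  · obtain ⟨i, hs, hpi, n, P, g, hg⟩ := exists_affine_chart_lift hX hq hqs A str z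
    let k : ι := ⟨i, hs, hpi, n, P⟩
    refine ⟨g ≫ c k, ?_⟩
    rw [Functor.map_comp, Category.assoc, hp k]
    exact hg

end MultiSecLib
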