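import Groth.Agent.MultiSecLib.Quot
import Groth.Agent.MultiSecLib.Finite

/-!
# Points over Henselian local rings lift to multisection charts
-/

set_option autoImplicit false
set_option backward.isDefEq.respectTransparency false
set_option backward.isDefEq.respectTransparency.types false

universe u

open CategoryTheory CategoryTheory.Limits AlgebraicGeometry Opposite AlgSp

noncomputable section

namespace MultiSecLib

open AlgSpLib

variable {S : Scheme.{u}} {X : Sp S} {U : Over S} {p : (yon S).obj U ⟶ X} [IsSeparated U.hom]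

/-- A chosen scheme of tuples. -/
def tup (hX : IsAlgSpace X) (hp : RepWith @Etale p) (n : ℕ) : Tup p (n + 1) := (exists_tup hX hp n).some

/-- An invariant affine open of tuples with distinct entries around a given tuple. -/
theorem exists_piece [IsAffine U.left] {n : ℕ} (τ : Tup p (n + 1)) (v : τ.V.left) (hv : v ∈ τ.D) :
    ∃ P : Piece τ, ∀ σ, (τ.act σ).left v ∈ P.O := by
  haveI := τ.etale 0
  haveI := τ.sep
  haveI : IsSeparated (τ.π 0).left := by
    haveI : IsSeparated ((τ.π 0).left ≫ U.hom) := by rw [Over.w (τ.π 0)]; exact τ.sep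
    exact IsSeparated.of_comp _ U.hom
  haveI : IsSeparated (terminal.from τ.V.left) := by
    rw [← terminal.comp_from (τ.π 0).left]
    infer_instance
  haveI : τ.V.left.IsSeparated := ⟨inferInstance⟩
  haveI : ∀ σ, IsIso (τ.act σ).left := fun σ => ⟨(τ.act σ⁻¹).left, by
    rw [← Over.comp_left, ← τ.act_mul, mul_inv_cancel, τ.act_one]; rfl, by
    rw [← Over.comp_left, ← τ.act_mul, inv_mul_cancel, τ.act_one]; rfl⟩
  obtain ⟨Ua, hUa, hle, hE⟩ := exists_affine_of_finite_etale (τ.π 0).left τ.D
    (Set.range fun σ => (τ.act σ).left v) (Set.finite_range _) (by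
      rintro _ ⟨σ, rfl⟩; exact τ.act_mem_D hv)
  let O : τ.V.left.Opens := ⨅ σ, (τ.act σ).left ⁻¹ᵁ Ua
  have hmem : ∀ x, x ∈ O ↔ ∀ σ, (τ.act σ).left x ∈ Ua := fun x => by
    change x ∈ (O : Set τ.V.left) ↔ _
    simp only [O, TopologicalSpace.Opens.coe_iInf, Set.mem_iInter]
    rfl
  refine ⟨⟨O, IsAffineOpen.iInf fun σ => hUa.preimage (τ.act σ).left, fun x hx => hle ?_, fun σ x hx => ?_⟩,
    fun σ => (hmem _).2 fun σ' => ?_⟩
  · have := (hmem x).1 hx 1
    rw [τ.act_one] at this
    exact this
  · refine (hmem _).2 fun σ' => ?_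
    rw [← Scheme.Hom.comp_apply, ← Over.comp_left, ← τ.act_mul]
    exact (hmem x).1 hx _
  · rw [← Scheme.Hom.comp_apply, ← Over.comp_left, ← τ.act_mul]
    exact hE ⟨_, rfl⟩

variable (hX : IsAlgSpace X) (hp : RepWith @Etale p)

/-- A point over a Henselian local ring meeting the image of an affine chart lifts to a multisection chart. -/
theorem exists_piece_lift [IsAffine U.left] (A : Type u) [CommRing A] [HenselianLocalRing A]
    (str : Spec (CommRingCat.of A) ⟶ S) (z : (yon S).obj (Over.mk str) ⟶ X) {W : Over S} {a : W ⟶ U}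
    {b : W ⟶ Over.mk str} (sq : IsPullback ((yon S).map a) ((yon S).map b) p z) (w : W.left)
    (hw : b.left w = IsLocalRing.closedPoint A) :
    ∃ (n : ℕ) (P : Piece (tup hX hp n)) (g : Over.mk str ⟶ P.Z), (yon S).map g ≫ P.chart = z := by
  classical
  let Y : Over S := Over.mk str
  haveI : Etale b.left := (repWith_yon_map_iff (P := (@Etale : MorphismProperty Scheme.{u})) b).1
    (repWith_of_isPullback sq hp)
  -- the finite piece
  obtain ⟨Bo, hBo, hwB, -⟩ :=
    TopologicalSpace.Opens.isBasis_iff_nbhd.1 W.left.isBasis_affineOpens (show w ∈ (⊤ : W.left.Opens) from trivial)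
  obtain ⟨ψ, hψ⟩ := Spec.map_surjective (R := CommRingCat.of A) (hBo.fromSpec ≫ b.left)
  letI := ψ.hom.toAlgebra
  haveI : Etale (Spec.map ψ) := by rw [hψ]; infer_instance
  haveI : Algebra.Etale A Γ(W.left, Bo) :=
    RingHom.etale_algebraMap.1 ((HasRingHomProperty.Spec_iff (P := @Etale)).1 ‹Etale (Spec.map ψ)›)
  let q := hBo.primeIdealOf ⟨w, hwB⟩
  have hqw : hBo.fromSpec q = w := hBo.fromSpec_primeIdealOf ⟨w, hwB⟩
  have hqm : q.asIdeal.comap (algebraMap A Γ(W.left, Bo)) = IsLocalRing.maximalIdeal A := by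
    have : Spec.map ψ q = IsLocalRing.closedPoint A := by
      rw [hψ, Scheme.Hom.comp_apply, hqw]
      exact hw
    exact congrArg PrimeSpectrum.asIdeal this
  obtain ⟨e, he, heq, hfin⟩ := exists_idem_finite A Γ(W.left, Bo) q.asIdeal hqm
  let B' := Γ(W.left, Bo) ⧸ Ideal.span ({1 - e} : Set Γ(W.left, Bo))
  haveI : IsLocalization.Away e B' :=
    IsLocalization.away_of_isIdempotentElem he Ideal.mk_ker Ideal.Quotient.mk_surjective
  haveI : Algebra.Etale Γ(W.left, Bo) B' := Algebra.Etale.of_isLocalizationAway e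
  haveI : Algebra.Etale A B' := Algebra.Etale.comp A Γ(W.left, Bo) B'
  haveI : Module.Finite A B' := hfin
  haveI : Nontrivial B' := Ideal.Quotient.nontrivial_iff.2 fun htop => by
    have h1 : (1 : Γ(W.left, Bo)) ∈ Ideal.span ({1 - e} : Set Γ(W.left, Bo)) := htop ▸ Submodule.mem_top
    obtain ⟨c, hc⟩ := Ideal.mem_span_singleton'.1 h1
    refine heq ?_
    have : e = 0 := by
      calc e = e * (c * (1 - e)) := by rw [hc, mul_one]
        _ = c * (e - e * e) := by ring
        _ = 0 := by rw [he.eq, sub_self, mul_zero]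
    rw [this]
    exact q.asIdeal.zero_mem
  haveI : Module.Free A B' := Module.free_of_flat_of_isLocalRing
  obtain ⟨n, hn⟩ : ∃ n, Module.finrank A B' = n + 1 := Nat.exists_eq_succ_of_ne_zero ((Module.finrank_pos_iff_of_free A B').2 inferInstance).ne'
  let jT : Spec (CommRingCat.of B') ⟶ W.left :=
    Spec.map (CommRingCat.ofHom (algebraMap Γ(W.left, Bo) B')) ≫ hBo.fromSpec
  haveI : IsOpenImmersion (Spec.map (CommRingCat.ofHom (algebraMap Γ(W.left, Bo) B'))) :=
    IsOpenImmersion.of_isLocalization e
  let τT : Spec (CommRingCat.of B') ⟶ Spec (CommRingCat.of A) := Spec.map (CommRingCat.ofHom (algebraMap A B'))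
  have hτT : jT ≫ b.left = τT := by
    simp only [jT, Category.assoc]
    rw [← hψ, ← Spec.map_comp]
    rfl
  let TS : Over S := Over.mk (jT ≫ W.hom)
  let jo : TS ⟶ W := Over.homMk jT rfl
  haveI : IsOpenImmersion jo.left := inferInstanceAs (IsOpenImmersion jT)
  -- points of the piece over geometric points of the base
  have hcard : ∀ (K : Type u) [Field K] [IsAlgClosed K] (η : Spec (CommRingCat.of K) ⟶ Spec (CommRingCat.of A)),
      Finite {c : Spec (CommRingCat.of K) ⟶ TS.left // c ≫ τT = η} ∧
      Nat.card {c : Spec (CommRingCat.of K) ⟶ TS.left // c ≫ τT = η} = n + 1 := by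
    intro K _ _ η
    obtain ⟨φ, rfl⟩ := Spec.map_surjective η
    letI := φ.hom.toAlgebra
    let ev : {c : Spec (CommRingCat.of K) ⟶ TS.left // c ≫ τT = Spec.map φ} ≃ (B' →ₐ[A] K) :=
      { toFun := fun c =>
          { __ := (Spec.preimage (R := CommRingCat.of B') c.1).hom
            commutes' := fun r => by
              have h := c.2
              rw [← Spec.map_preimage (R := CommRingCat.of B') c.1, ← Spec.map_comp] at h
              exact congrArg (fun t => t.hom r) (Spec.map_injective h) }
        invFun := fun f => ⟨Spec.map (CommRingCat.ofHom f.toRingHom), by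
          rw [← Spec.map_comp]
          congr 1
          ext r
          exact f.commutes r⟩
        left_inv := fun c => Subtype.ext (Spec.map_preimage (R := CommRingCat.of B') c.1)
        right_inv := fun f => AlgHom.ext fun r => by
          change (Spec.preimage (Spec.map (CommRingCat.ofHom f.toRingHom))).hom r = f r
          rw [Spec.preimage_map]
          rfl }
    have h := natCard_algHom_geom A B' K
    rw [hn] at h
    have h' := (Nat.card_congr ev).trans h
    exact ⟨Nat.finite_of_card_ne_zero (by omega), h'⟩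
  let K := AlgebraicClosure (IsLocalRing.ResidueField A)
  let ybar : Spec (CommRingCat.of K) ⟶ Spec (CommRingCat.of A) :=
    Spec.map (CommRingCat.ofHom ((algebraMap (IsLocalRing.ResidueField A) K).comp (IsLocalRing.residue A)))
  obtain ⟨hfinC, hC⟩ := hcard K ybar
  let en : Fin (n + 1) ≃ {c : Spec (CommRingCat.of K) ⟶ TS.left // c ≫ τT = ybar} := (Finite.equivFinOfCardEq hC).symm
  let Kp : Over S := Over.mk (ybar ≫ str)
  let yO : Kp ⟶ Y := Over.homMk ybar rfl
  let cT : Fin (n + 1) → (Kp ⟶ TS) := fun i => Over.homMk (en i).1 (by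
    change (en i).1 ≫ jT ≫ W.hom = ybar ≫ str
    rw [← Over.w b, reassoc_of% hτT, reassoc_of% (en i).2]
    rfl)
  have hcb : ∀ i, cT i ≫ jo ≫ b = yO := fun i => by
    apply Over.OverMorphism.ext
    change (en i).1 ≫ jT ≫ b.left = ybar
    rw [hτT]; exact (en i).2
  let τ := tup hX hp n
  obtain ⟨v, hv⟩ := (τ.existsUnique Kp (fun i => cT i ≫ jo ≫ a) ((yon S).map yO ≫ z) fun i => by
    rw [← hcb i, Functor.map_comp, Functor.map_comp, Functor.map_comp, Functor.map_comp]
    simp only [Category.assoc, sq.w]).exists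
  have hvD : v.left (IsLocalRing.closedPoint K) ∈ τ.D := by
    refine (τ.mem_D_iff v.left).2 fun i j hij => en.injective (Subtype.ext ?_)
    have h1 : cT i ≫ jo ≫ a = cT j ≫ jo ≫ a := by
      rw [← hv i, ← hv j]
      exact Over.OverMorphism.ext hij
    have h2 : cT i ≫ jo = cT j ≫ jo := (yon S).map_injective (sq.hom_ext
      (by rw [← Functor.map_comp, ← Functor.map_comp, Category.assoc, Category.assoc, h1])
      (by rw [← Functor.map_comp, ← Functor.map_comp, Category.assoc, Category.assoc, hcb, hcb]))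
    exact (cancel_mono jo.left).1 (congrArg (fun t => t.left) h2)
  obtain ⟨P, hP⟩ := exists_piece τ _ hvD
  -- pull the piece back
  let qP : (yon S).obj P.obj ⟶ X := (yon S).map P.incl ≫ τ.q
  have hqP : RepWith @Etale qP := repWith_comp
    ((repWith_yon_map_iff (P := (@Etale : MorphismProperty Scheme.{u})) _).2 inferInstance) τ.etale_q
  obtain ⟨R, ra, rb, sqR⟩ := exists_isPullback_yon qP z (hX.representable_from_yon qP)
  haveI : Etale rb.left := (repWith_yon_map_iff (P := (@Etale : MorphismProperty Scheme.{u})) rb).1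
    (repWith_of_isPullback sqR hqP)
  have ht : ∀ i, ∃ t : R ⟶ W, t ≫ a = ra ≫ P.incl ≫ τ.π i ∧ t ≫ b = rb := fun i => by
    obtain ⟨t, ht⟩ := (yon S).map_surjective (sq.lift ((yon S).map (ra ≫ P.incl ≫ τ.π i)) ((yon S).map rb) (by
      rw [Functor.map_comp, Functor.map_comp, Category.assoc, Category.assoc, τ.w, sqR.w]))
    exact ⟨t, (yon S).map_injective (by rw [Functor.map_comp, ht, sq.lift_fst]),
      (yon S).map_injective (by rw [Functor.map_comp, ht, sq.lift_snd])⟩
  choose t hta htb using ht
  let OR : R.left.Opens := ⨅ i, (t i).left ⁻¹ᵁ jT.opensRange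
  have hOR : ∀ r, r ∈ OR ↔ ∀ i, (t i).left r ∈ Set.range jT := fun r => by
    change r ∈ (OR : Set R.left) ↔ _
    simp only [OR, TopologicalSpace.Opens.coe_iInf, Set.mem_iInter]
    rfl
  let Ro : Over S := Over.mk (OR.ι ≫ R.hom)
  let ir : Ro ⟶ R := Over.homMk OR.ι rfl
  haveI : IsOpenImmersion ir.left := inferInstanceAs (IsOpenImmersion OR.ι)
  have hirmem : ∀ x : Ro.left, ir.left x ∈ OR := fun x => x.2
  have hs : ∀ i, ∃ s : Ro ⟶ TS, s ≫ jo = ir ≫ t i := fun i => by
    have hr : Set.range (ir ≫ t i).left ⊆ Set.range jo.left := by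
      rintro _ ⟨x, rfl⟩
      rw [Over.comp_left, Scheme.Hom.comp_apply]
      exact (hOR _).1 (hirmem x) i
    refine ⟨Over.homMk (IsOpenImmersion.lift jo.left (ir ≫ t i).left hr) ?_, Over.OverMorphism.ext
      (IsOpenImmersion.lift_fac _ _ _)⟩
    change _ ≫ jo.left ≫ W.hom = Ro.hom
    rw [IsOpenImmersion.lift_fac_assoc, Over.w (ir ≫ t i)]
  choose s hs using hs
  -- the deck transformations
  have hσR : ∀ σ, ∃ m : R ⟶ R, m ≫ ra = ra ≫ P.act σ ∧ m ≫ rb = rb := fun σ => by
    obtain ⟨m, hm⟩ := (yon S).map_surjective (sqR.lift ((yon S).map (ra ≫ P.act σ)) ((yon S).map rb) (by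
      rw [Functor.map_comp, Category.assoc, show (yon S).map (P.act σ) ≫ qP = qP by
        simp only [qP]
        rw [← Functor.map_comp_assoc, P.act_incl, Functor.map_comp, Category.assoc, τ.act_q]]
      exact sqR.w))
    exact ⟨m, (yon S).map_injective (by rw [Functor.map_comp, hm, sqR.lift_fst]),
      (yon S).map_injective (by rw [Functor.map_comp, hm, sqR.lift_snd])⟩
  choose mR hmra hmrb using hσR
  have hmt : ∀ σ i, mR σ ≫ t i = t (σ i) := fun σ i => by
    refine (yon S).map_injective (sq.hom_ext ?_ ?_)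
    · rw [← Functor.map_comp, ← Functor.map_comp, Category.assoc, hta, hta, ← Category.assoc, hmra,
        Category.assoc, P.act_incl_assoc, τ.act_π]
    · rw [← Functor.map_comp, ← Functor.map_comp, Category.assoc, htb, htb, hmrb]
  have hmo : ∀ σ, ∃ m : Ro ⟶ Ro, m ≫ ir = ir ≫ mR σ := fun σ => by
    have hr : Set.range (ir ≫ mR σ).left ⊆ Set.range ir.left := by
      rintro _ ⟨x, rfl⟩
      change _ ∈ Set.range OR.ι
      rw [Scheme.Opens.range_ι, Over.comp_left, Scheme.Hom.comp_apply]
      refine (hOR _).2 fun i => ?_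
      rw [← Scheme.Hom.comp_apply, ← Over.comp_left, hmt]
      exact (hOR _).1 (hirmem x) (σ i)
    refine ⟨Over.homMk (IsOpenImmersion.lift ir.left (ir ≫ mR σ).left hr) ?_, Over.OverMorphism.ext
      (IsOpenImmersion.lift_fac _ _ _)⟩
    change _ ≫ ir.left ≫ R.hom = Ro.hom
    rw [IsOpenImmersion.lift_fac_assoc, Over.w (ir ≫ mR σ)]
  choose mo hmo using hmo
  let π : Ro ⟶ Y := ir ≫ rb
  haveI : Etale π.left := by rw [Over.comp_left]; infer_instance
  -- surjectivity
  haveI : Surjective π.left := by
    obtain ⟨vP, hvP⟩ : ∃ vP : Kp ⟶ P.obj, vP ≫ P.incl = v := by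
      have hr : Set.range v.left ⊆ Set.range P.incl.left := by
        rintro _ ⟨x, rfl⟩
        haveI : Subsingleton ↥Kp.left := inferInstanceAs (Subsingleton (PrimeSpectrum K))
        rw [P.range_incl, Subsingleton.elim x (IsLocalRing.closedPoint K)]
        have := hP 1
        rw [τ.act_one] at this
        exact this
      refine ⟨Over.homMk (IsOpenImmersion.lift P.incl.left v.left hr) ?_, Over.OverMorphism.ext
        (IsOpenImmersion.lift_fac _ _ _)⟩
      change _ ≫ P.incl.left ≫ τ.V.hom = Kp.hom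
      rw [IsOpenImmersion.lift_fac_assoc, Over.w v]
    obtain ⟨r, hr⟩ := (yon S).map_surjective (sqR.lift ((yon S).map vP) ((yon S).map yO) (by
      simp only [qP]
      rw [← Functor.map_comp_assoc, hvP, ← τ.w 0, ← Functor.map_comp_assoc, hv, ← hcb 0]
      simp only [Functor.map_comp, Category.assoc, sq.w]))
    have hrra : r ≫ ra = vP := (yon S).map_injective (by rw [Functor.map_comp, hr, sqR.lift_fst])
    have hrrb : r ≫ rb = yO := (yon S).map_injective (by rw [Functor.map_comp, hr, sqR.lift_snd])
    have hrt : ∀ i, r ≫ t i = cT i ≫ jo := fun i => by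
      refine (yon S).map_injective (sq.hom_ext ?_ ?_)
      · rw [← Functor.map_comp, ← Functor.map_comp, Category.assoc, hta, ← Category.assoc, hrra, ← Category.assoc,
          hvP, hv, Category.assoc]
      · rw [← Functor.map_comp, ← Functor.map_comp, Category.assoc, htb, hrrb, Category.assoc, hcb]
    have hmem : r.left (IsLocalRing.closedPoint K) ∈ OR := (hOR _).2 fun i => by
      rw [← Scheme.Hom.comp_apply, ← Over.comp_left, hrt, Over.comp_left, Scheme.Hom.comp_apply]
      exact ⟨_, rfl⟩
    let O' : (Spec (CommRingCat.of A)).Opens := ⟨Set.range π.left, π.left.isOpenMap.isOpen_range⟩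
    have hcl : IsLocalRing.closedPoint A ∈ O' := by
      refine ⟨⟨_, hmem⟩, ?_⟩
      have h : rb.left (r.left (IsLocalRing.closedPoint K)) = IsLocalRing.closedPoint A := by
        rw [← Scheme.Hom.comp_apply, ← Over.comp_left, hrrb]
        apply PrimeSpectrum.ext
        change Ideal.comap ((algebraMap (IsLocalRing.ResidueField A) K).comp (IsLocalRing.residue A))
          (IsLocalRing.maximalIdeal K) = IsLocalRing.maximalIdeal A
        rw [IsLocalRing.maximalIdeal_eq_bot, ← RingHom.ker_eq_comap_bot, RingHom.ker_comp_of_injective _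
          (algebraMap (IsLocalRing.ResidueField A) K).injective, IsLocalRing.ker_residue]
      exact h
    have htop : O' = ⊤ := (IsLocalRing.closedPoint_mem_iff O').1 hcl
    exact ⟨fun y => (show y ∈ O' by rw [htop]; trivial)⟩
  -- transitivity
  have htr : ∀ (L : Type u) [Field L] [IsAlgClosed L] (c d : Spec (CommRingCat.of L) ⟶ Ro.left),
      c ≫ π.left = d ≫ π.left → ∃ σ, c ≫ (mo σ).left = d := by
    intro L _ _ c d hcd
    let η : Spec (CommRingCat.of L) ⟶ Spec (CommRingCat.of A) := c ≫ π.left
    obtain ⟨hfL, hL⟩ := hcard L η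
    let Lp : Over S := Over.mk (c ≫ Ro.hom)
    let cO : Lp ⟶ Ro := Over.homMk c rfl
    let dO : Lp ⟶ Ro := Over.homMk d (by
      change d ≫ Ro.hom = c ≫ Ro.hom
      rw [← Over.w π, ← Category.assoc, ← Category.assoc, hcd])
    have hcdπ : cO ≫ π = dO ≫ π := Over.OverMorphism.ext hcd
    have hsπ : ∀ i, (s i).left ≫ τT = π.left := fun i => by
      rw [← hτT, ← Category.assoc]
      change (s i ≫ jo).left ≫ b.left = _
      rw [hs, ← Over.comp_left, Category.assoc, htb]
    let F : (Lp ⟶ Ro) → Fin (n + 1) → (Lp ⟶ TS) := fun e i => e ≫ s i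
    let toC : (e : Lp ⟶ Ro) → e.left ≫ π.left = η → Fin (n + 1) →
        {c : Spec (CommRingCat.of L) ⟶ TS.left // c ≫ τT = η} := fun e he i =>
      ⟨(F e i).left, by
        change (e.left ≫ (s i).left) ≫ τT = η
        rw [Category.assoc, hsπ, he]⟩
    have hinj : ∀ e he, Function.Injective (toC e he) := fun e he i j hij => by
      refine P.injective_point (e ≫ ir ≫ ra).left ?_
      have h : e ≫ s i = e ≫ s j := Over.OverMorphism.ext (congrArg Subtype.val hij)
      have h' := congrArg (fun k => k ≫ jo ≫ a) h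
      simp only [Category.assoc, reassoc_of% hs, hta] at h'
      have h'' := congrArg (fun k => k.left) h'
      simpa only [Over.comp_left, Category.assoc] using h''
    have hbij : ∀ e he, Function.Bijective (toC e he) := fun e he =>
      (Nat.bijective_iff_injective_and_card _).2 ⟨hinj e he, by rw [hL, Nat.card_eq_fintype_card, Fintype.card_fin]⟩
    let ec := Equiv.ofBijective _ (hbij cO rfl)
    let ed := Equiv.ofBijective _ (hbij dO hcd.symm)
    let σ : Equiv.Perm (Fin (n + 1)) := ed.trans ec.symm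
    have hσ : ∀ i, cO ≫ s (σ i) = dO ≫ s i := fun i => by
      have : ec (σ i) = ed i := ec.apply_symm_apply _
      exact Over.OverMorphism.ext (congrArg Subtype.val this)
    refine ⟨σ, ?_⟩
    suffices h : cO ≫ mo σ = dO from congrArg (fun k => k.left) h
    apply Over.OverMorphism.ext
    rw [← cancel_mono ir.left, ← Over.comp_left, ← Over.comp_left]
    refine congrArg (fun k : Lp ⟶ R => k.left) ((yon S).map_injective (sqR.hom_ext ?_ ?_))
    · rw [← Functor.map_comp, ← Functor.map_comp]
      refine congrArg (yon S).map (P.hom_ext (τ.hom_ext fun i => ?_))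
      simp only [Category.assoc, reassoc_of% hmo, reassoc_of% hmra, P.act_incl_assoc, τ.act_π]
      rw [← hta, ← hta, ← reassoc_of% hs, ← reassoc_of% hs, reassoc_of% (hσ i)]
    · rw [← Functor.map_comp, ← Functor.map_comp]
      refine congrArg (yon S).map ?_
      simp only [Category.assoc, reassoc_of% hmo, hmrb]
      exact hcdπ
  -- descend
  obtain ⟨y, hy⟩ := exists_desc_of_orbit π mo
    (fun σ => by simp only [π]; rw [reassoc_of% hmo, hmrb]) htr ((yon S).map (ir ≫ ra ≫ P.pZ)) fun σ => by
      rw [← Functor.map_comp]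
      congr 1
      rw [reassoc_of% hmo, reassoc_of% hmra, P.act_pZ]
  obtain ⟨g, rfl⟩ := (yon S).map_surjective y
  refine ⟨n, P, g, hom_ext_of_atlas
    ((repWith_yon_map_iff (P := (@Etale : MorphismProperty Scheme.{u})) π).2 inferInstance)
    ((repWith_yon_map_iff (P := @Surjective) π).2 inferInstance) ?_⟩
  rw [← Category.assoc, hy, Functor.map_comp, Functor.map_comp, Category.assoc, Category.assoc, P.pZ_chart]
  simp only [π, Functor.map_comp, Category.assoc]
  exact congrArg ((yon S).map ir ≫ ·) sqR.w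

end MultiSecLib
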