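import Groth.Agent.MultiSecLib.Tuple
import Groth.Agent.MultiSecLib.Descend
import Groth.Agent.AlgSpLib.LocP
import Groth.Agent.AlgSpLib.EtLocProp
import Groth.Agent.QuotLib.Sep
import Groth.Agent.QuotLib.GeomOrbit
import Groth.Agent.TorsorQuotLib.Main
import Mathlib.AlgebraicGeometry.Morphisms.LocalFlatDescent

/-!
# Etale charts from invariant affine sets of tuples with distinct entries
-/

set_option autoImplicit false
set_option backward.isDefEq.respectTransparency false
set_option backward.isDefEq.respectTransparency.types false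

universe u

open CategoryTheory CategoryTheory.Limits AlgebraicGeometry Opposite AlgSp

noncomputable section

namespace MultiSecLib

open AlgSpLib

variable {S : Scheme.{u}} {X : Sp S} {U : Over S} {p : (yon S).obj U ⟶ X} [IsSeparated U.hom] {n : ℕ}

/-- The permutations, in the universe of schemes. -/
abbrev GP (n : ℕ) : Type u := ULift.{u} (Equiv.Perm (Fin (n + 1)))

/-- An invariant affine open of tuples with distinct entries. -/
structure Piece (τ : Tup p (n + 1)) : Type u where
  O : τ.V.left.Opens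
  affine : IsAffineOpen O
  le : O ≤ τ.D
  inv : ∀ σ, O ≤ (τ.act σ).left ⁻¹ᵁ O

variable {τ : Tup p (n + 1)} (P : Piece τ)

/-- The scheme of the piece. -/
def Piece.obj : Over S := Over.mk (P.O.ι ≫ τ.V.hom)

/-- Its inclusion. -/
def Piece.incl : P.obj ⟶ τ.V := Over.homMk P.O.ι rfl

instance : IsAffine P.obj.left := P.affine
instance : IsOpenImmersion P.incl.left := inferInstanceAs (IsOpenImmersion P.O.ι)

theorem Piece.range_incl : Set.range P.incl.left = (P.O : Set τ.V.left) := Scheme.Opens.range_ι _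

theorem Piece.range_le (σ : Equiv.Perm (Fin (n + 1))) :
    Set.range (P.incl.left ≫ (τ.act σ).left) ⊆ Set.range P.O.ι := by
  rintro _ ⟨x, rfl⟩
  rw [Scheme.Opens.range_ι, Scheme.Hom.comp_apply]
  exact P.inv σ (P.range_incl.le ⟨x, rfl⟩)

/-- The action on the piece. -/
def Piece.act (σ : Equiv.Perm (Fin (n + 1))) : P.obj ⟶ P.obj :=
  Over.homMk (IsOpenImmersion.lift P.O.ι (P.incl.left ≫ (τ.act σ).left) (P.range_le σ)) (by
    show _ ≫ P.O.ι ≫ τ.V.hom = P.O.ι ≫ τ.V.hom
    rw [IsOpenImmersion.lift_fac_assoc, Category.assoc, Over.w (τ.act σ)]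
    rfl)

@[reassoc] theorem Piece.act_incl (σ : Equiv.Perm (Fin (n + 1))) : P.act σ ≫ P.incl = P.incl ≫ τ.act σ :=
  Over.OverMorphism.ext (IsOpenImmersion.lift_fac _ _ _)

theorem Piece.hom_ext {T : Over S} {g g' : T ⟶ P.obj} (h : g ≫ P.incl = g' ≫ P.incl) : g = g' :=
  Over.OverMorphism.ext ((cancel_mono P.incl.left).1 (congrArg (fun t => t.left) h))

theorem Piece.act_one : P.act 1 = 𝟙 P.obj := P.hom_ext (by rw [P.act_incl, τ.act_one]; simp)

theorem Piece.act_mul (σ σ' : Equiv.Perm (Fin (n + 1))) : P.act (σ * σ') = P.act σ ≫ P.act σ' :=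
  P.hom_ext (by rw [P.act_incl, τ.act_mul, Category.assoc, P.act_incl, P.act_incl_assoc])

/-- The group action on the scheme of the piece. -/
def Piece.ρ : GP.{u} n →* Aut P.obj.left where
  toFun g :=
    { hom := (P.act g.down⁻¹).left
      inv := (P.act g.down).left
      hom_inv_id := by rw [← Over.comp_left, ← P.act_mul, inv_mul_cancel, P.act_one]; rfl
      inv_hom_id := by rw [← Over.comp_left, ← P.act_mul, mul_inv_cancel, P.act_one]; rfl }
  map_one' := Iso.ext (by
    show (P.act (1 : Equiv.Perm (Fin (n + 1)))⁻¹).left = _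
    rw [inv_one, P.act_one]; rfl)
  map_mul' g h := Iso.ext (by
    show (P.act (g.down * h.down)⁻¹).left = (P.act h.down⁻¹).left ≫ (P.act g.down⁻¹).left
    rw [mul_inv_rev, P.act_mul]; rfl)

theorem Piece.injective_point {K : Type u} [Field K] (ξ : Spec (CommRingCat.of K) ⟶ P.obj.left) :
    Function.Injective fun i => ξ ≫ (P.incl ≫ τ.π i).left := by
  have := (τ.mem_D_iff (ξ ≫ P.incl.left)).1 (by
    rw [Scheme.Hom.comp_apply]; exact P.le (P.range_incl.le ⟨_, rfl⟩))
  simpa only [Category.assoc, ← Over.comp_left] using this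

theorem Piece.free : TorsorQuotLib.Free P.ρ := fun K _ _ ξ g hg => by
  have h : ∀ i, ξ ≫ (P.incl ≫ τ.π (g.down⁻¹ i)).left = ξ ≫ (P.incl ≫ τ.π i).left := fun i => by
    conv_rhs => rw [← hg]
    change _ = (ξ ≫ (P.act g.down⁻¹).left) ≫ _
    rw [Category.assoc, ← Over.comp_left, P.act_incl_assoc, τ.act_π]
  have : g.down⁻¹ = 1 := Equiv.ext fun i => P.injective_point ξ (h i)
  exact ULift.ext _ _ (inv_eq_one.1 this)

/-- The quotient scheme. -/
def Piece.Q : Scheme.{u} := (QuotLib.exists_affine_quot P.ρ).choose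

/-- The quotient map of schemes. -/
def Piece.qm : P.obj.left ⟶ P.Q := (QuotLib.exists_affine_quot P.ρ).choose_spec.choose

theorem Piece.isAffine_Q : IsAffine P.Q := (QuotLib.exists_affine_quot P.ρ).choose_spec.choose_spec.1

theorem Piece.isQuot : SGA1.IsQuot P.ρ P.qm := (QuotLib.exists_affine_quot P.ρ).choose_spec.choose_spec.2

theorem Piece.exists_str : ∃ h : P.Q ⟶ S, P.qm ≫ h = P.obj.hom :=
  QuotLib.exists_desc P.isQuot P.obj.hom fun g => Over.w (P.act g.down⁻¹)

/-- The quotient over the base. -/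
def Piece.Z : Over S := Over.mk P.exists_str.choose

instance : IsAffine P.Z.left := P.isAffine_Q

/-- The quotient map. -/
def Piece.pZ : P.obj ⟶ P.Z := Over.homMk P.qm P.exists_str.choose_spec

theorem Piece.act_pZ (σ : Equiv.Perm (Fin (n + 1))) : P.act σ ≫ P.pZ = P.pZ := by
  apply Over.OverMorphism.ext
  have := P.isQuot.inv (ULift.up σ⁻¹)
  simpa [Piece.ρ, Piece.pZ] using this

instance : Surjective P.pZ.left := ⟨QuotLib.surjective P.isQuot⟩

instance : Etale P.pZ.left := by
  haveI : Flat P.qm := TorsorQuotLib.flat_of_free P.isQuot P.free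
  haveI : IsAffineHom P.qm := P.isQuot.affine
  haveI : Surjective P.qm := ⟨QuotLib.surjective P.isQuot⟩
  haveI := TorsorQuotLib.isIso_desc_gr P.isQuot P.free
  have h : Etale (pullback.snd P.qm P.qm) := by
    rw [← MorphismProperty.cancel_left_of_respectsIso (@Etale) (Sigma.desc (TorsorQuotLib.gr P.isQuot.inv))]
    refine IsZariskiLocalAtSource.of_openCover (sigmaOpenCover _) fun g => ?_
    change Etale (Sigma.ι (fun _ : GP.{u} n => P.obj.left) g ≫ Sigma.desc (TorsorQuotLib.gr P.isQuot.inv) ≫ _)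
    rw [Sigma.ι_desc_assoc, TorsorQuotLib.gr_snd]
    infer_instance
  exact MorphismProperty.of_pullback_snd_of_descendsAlong (Q := @Surjective ⊓ @Flat ⊓ @QuasiCompact)
    (P := @Etale) (f := P.qm) (g := P.qm) ⟨⟨inferInstance, inferInstance⟩, inferInstance⟩ h

theorem Piece.transitive (K : Type u) [Field K] [IsAlgClosed K] (a b : Spec (CommRingCat.of K) ⟶ P.obj.left)
    (e : a ≫ P.pZ.left = b ≫ P.pZ.left) : ∃ σ, a ≫ (P.act σ).left = b := by
  obtain ⟨g, hg⟩ := QuotLib.geomOrbit P.isQuot e
  exact ⟨g.down⁻¹, hg.symm⟩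

theorem Piece.exists_map : ∃ h : (yon S).obj P.Z ⟶ X, (yon S).map P.pZ ≫ h = (yon S).map P.incl ≫ τ.q :=
  exists_desc_of_orbit P.pZ P.act P.act_pZ P.transitive _ fun σ => by
    rw [← Functor.map_comp_assoc, P.act_incl, Functor.map_comp, Category.assoc, τ.act_q]

/-- The chart. -/
def Piece.chart : (yon S).obj P.Z ⟶ X := P.exists_map.choose

theorem Piece.pZ_chart : (yon S).map P.pZ ≫ P.chart = (yon S).map P.incl ≫ τ.q := P.exists_map.choose_spec

theorem Piece.repWith_chart (hX : IsAlgSpace X) (hp : RepWith @Etale p) : RepWith @Etale P.chart := by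
  haveI : Etale (P.incl ≫ τ.π 0).left := by
    haveI := τ.etale 0
    rw [Over.comp_left]; infer_instance
  exact repWith_of_locP hX (hX.representable_from_yon _) (locP_of_chart (a₀ := (yon S).map P.pZ) (b₀ := p)
    (h₀ := P.incl ≫ τ.π 0)
    ((repWith_yon_map_iff (P := (@Etale : MorphismProperty Scheme.{u})) _).2 inferInstance)
    ((repWith_yon_map_iff (P := @Surjective) _).2 inferInstance) hp
    (by rw [P.pZ_chart, Functor.map_comp, Category.assoc, τ.w]) inferInstance)

end MultiSecLib
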