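import Groth.Agent.MultiSecLib.Global
import Groth.Agent.HenselLib.SmoothLift
import Groth.Agent.HenselLib.Perm
import Groth.Agent.S16174
import Mathlib.AlgebraicGeometry.Morphisms.Smooth

/-!
# Sections of smooth spaces over Henselian local rings
-/

set_option autoImplicit false
set_option backward.isDefEq.respectTransparency false
set_option backward.isDefEq.respectTransparency.types false

universe u

open CategoryTheory CategoryTheory.Limits AlgebraicGeometry Opposite AlgSp

noncomputable section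

namespace MultiSecLib

open AlgSpLib

variable {S : Scheme.{u}}

/-- Points of a smooth scheme over a Henselian local ring lift from quotients. -/
theorem exists_lift_of_smooth (A : Type u) [CommRing A] [HenselianLocalRing A] (a : Ideal A) (ha : a ≠ ⊤)
    {V : Scheme.{u}} (f : V ⟶ Spec (CommRingCat.of A)) [Smooth f] (g : Spec (CommRingCat.of (A ⧸ a)) ⟶ V)
    (hg : g ≫ f = Spec.map (CommRingCat.ofHom (Ideal.Quotient.mk a))) :
    ∃ s : Spec (CommRingCat.of A) ⟶ V, s ≫ f = 𝟙 _ ∧ Spec.map (CommRingCat.ofHom (Ideal.Quotient.mk a)) ≫ s = g := by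
  haveI := Groth.Agent.S16174.henselian_quot a ha
  obtain ⟨W, hW, hxW, -⟩ := TopologicalSpace.Opens.isBasis_iff_nbhd.1 V.isBasis_affineOpens
    (show g (IsLocalRing.closedPoint (A ⧸ a)) ∈ (⊤ : V.Opens) from trivial)
  have hr : Set.range g ⊆ Set.range hW.fromSpec := by
    rw [hW.range_fromSpec]
    rintro _ ⟨y, rfl⟩
    have htop : g ⁻¹ᵁ W = ⊤ := (IsLocalRing.closedPoint_mem_iff _).1 hxW
    exact (show y ∈ g ⁻¹ᵁ W by rw [htop]; trivial)
  obtain ⟨ψ, hψ⟩ := Spec.map_surjective (R := CommRingCat.of A) (hW.fromSpec ≫ f)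
  letI := ψ.hom.toAlgebra
  haveI : Smooth (Spec.map ψ) := by rw [hψ]; infer_instance
  haveI : Algebra.Smooth A Γ(V, W) :=
    RingHom.smooth_algebraMap.1 ((HasRingHomProperty.Spec_iff (P := @Smooth)).1 ‹Smooth (Spec.map ψ)›)
  obtain ⟨σ, hσ⟩ := Spec.map_surjective (R := Γ(V, W)) (IsOpenImmersion.lift hW.fromSpec g hr)
  have hσψ : ψ ≫ σ = CommRingCat.ofHom (Ideal.Quotient.mk a) := Spec.map_injective (by
    rw [Spec.map_comp, hσ, hψ, IsOpenImmersion.lift_fac_assoc, hg])
  let σ' : Γ(V, W) →ₐ[A] A ⧸ a :=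
    { __ := σ.hom
      commutes' := fun r => congrArg (fun t => t.hom r) hσψ }
  haveI : HenselianRing A a := HenselLib.henselianRing_of_le (IsLocalRing.le_maximalIdeal ha)
  obtain ⟨τ, hτ⟩ := HenselLib.exists_point_lift (I := a) Γ(V, W) σ'
  refine ⟨Spec.map (CommRingCat.ofHom τ.toRingHom) ≫ hW.fromSpec, ?_, ?_⟩
  · rw [Category.assoc, ← hψ, ← Spec.map_comp, ← Spec.map_id]
    congr 1
    ext r
    exact τ.commutes r
  · rw [← Category.assoc, ← Spec.map_comp, ← IsOpenImmersion.lift_fac hW.fromSpec g hr, ← hσ]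
    congr 2
    ext r
    exact AlgHom.congr_fun hτ r

/-- Points of a smooth space over a Henselian local ring lift from quotients. -/
theorem exists_space_lift (A : Type u) [CommRing A] [HenselianLocalRing A] (a : Ideal A) (ha : a ≠ ⊤)
    (str : Spec (CommRingCat.of A) ⟶ S) {Y₀ : Over S} {j : Y₀ ⟶ Over.mk str}
    (e₀ : Y₀.left = Spec (CommRingCat.of (A ⧸ a)))
    (hj : eqToHom e₀.symm ≫ j.left = Spec.map (CommRingCat.ofHom (Ideal.Quotient.mk a)))
    {H : Sp S} (hH : IsAlgSpace H) {h : H ⟶ (yon S).obj (Over.mk str)} (hh : LocP @Smooth h)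
    (s₀ : (yon S).obj Y₀ ⟶ H) (hs₀ : s₀ ≫ h = (yon S).map j) :
    ∃ s : (yon S).obj (Over.mk str) ⟶ H, s ≫ h = 𝟙 _ ∧ (yon S).map j ≫ s = s₀ := by
  haveI := Groth.Agent.S16174.henselian_quot a ha
  obtain ⟨Z, p, -, hp, hlift⟩ := exists_separated_chart hH
  let Y₁ : Over S := Over.mk (eqToHom e₀.symm ≫ Y₀.hom)
  let e : Y₁ ⟶ Y₀ := Over.homMk (eqToHom e₀.symm) rfl
  obtain ⟨g, hg⟩ := hlift (A ⧸ a) (eqToHom e₀.symm ≫ Y₀.hom) ((yon S).map e ≫ s₀)
  obtain ⟨h', hh'⟩ := (yon S).map_surjective (p ≫ h)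
  haveI : Smooth h'.left :=
    hh p (𝟙 _) h' hp (repWith_id _ _) (by rw [Category.comp_id, hh'])
  obtain ⟨s, hs₁, hs₂⟩ := exists_lift_of_smooth A a ha h'.left g.left (by
    rw [← Over.comp_left, ← hj]
    refine congrArg (fun t => t.left) (show g ≫ h' = e ≫ j from (yon S).map_injective ?_)
    rw [Functor.map_comp, hh', ← Category.assoc, hg, Category.assoc, hs₀, Functor.map_comp])
  let sO : Over.mk str ⟶ Z := Over.homMk s (by
    rw [← Over.w h', ← Category.assoc, hs₁]
    exact Category.id_comp _)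
  refine ⟨(yon S).map sO ≫ p, ?_, ?_⟩
  · rw [Category.assoc, ← hh', ← Functor.map_comp,
      show sO ≫ h' = 𝟙 _ from Over.OverMorphism.ext hs₁, CategoryTheory.Functor.map_id]
  · haveI : IsIso e := by
      haveI : IsIso ((Over.forget S).map e) := inferInstanceAs (IsIso (eqToHom e₀.symm))
      exact isIso_of_reflects_iso e (Over.forget S)
    rw [← cancel_epi ((yon S).map e), ← hg, ← Category.assoc, ← Category.assoc, ← Functor.map_comp,
      ← Functor.map_comp]
    refine congrArg (fun t => (yon S).map t ≫ p) (Over.OverMorphism.ext ?_)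
    change (eqToHom e₀.symm ≫ j.left) ≫ s = g.left
    rw [hj]
    exact hs₂

end MultiSecLib
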