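import Groth.Agent.AlgSpLib.Space
import Groth.Agent.AlgSpLib.Sep
import Groth.Agent.AlgSpLib.Basic
import Mathlib.AlgebraicGeometry.Morphisms.Separated
import Mathlib.AlgebraicGeometry.Morphisms.Etale
import Mathlib.GroupTheory.Perm.Basic

/-!
# Tuples of points of a chart over a sheaf
-/

set_option autoImplicit false
set_option backward.isDefEq.respectTransparency false
set_option backward.isDefEq.respectTransparency.types false

universe u

open CategoryTheory CategoryTheory.Limits AlgebraicGeometry Opposite AlgSp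

noncomputable section

namespace MultiSecLib

open AlgSpLib

variable {S : Scheme.{u}}

/-- A scheme representing `n`-tuples of points of `U` with a common image in `X`. -/
structure Tup {X : Sp S} {U : Over S} (p : (yon S).obj U ⟶ X) (n : ℕ) where
  /-- the representing scheme -/
  V : Over S
  /-- the projections -/
  π : Fin n → (V ⟶ U)
  /-- the map to `X` -/
  q : (yon S).obj V ⟶ X
  w : ∀ i, (yon S).map (π i) ≫ p = q
  existsUnique : ∀ (T : Over S) (f : Fin n → (T ⟶ U)) (x : (yon S).obj T ⟶ X),
    (∀ i, (yon S).map (f i) ≫ p = x) → ∃! g : T ⟶ V, ∀ i, g ≫ π i = f i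
  etale : ∀ i, Etale (π i).left
  sep : IsSeparated V.hom
  etale_q : RepWith @Etale q

variable {X : Sp S} {U : Over S} {p : (yon S).obj U ⟶ X}

theorem Tup.hom_ext {n : ℕ} (τ : Tup p (n + 1)) {T : Over S} {g g' : T ⟶ τ.V}
    (h : ∀ i, g ≫ τ.π i = g' ≫ τ.π i) : g = g' := by
  refine (τ.existsUnique T (fun i => g' ≫ τ.π i) ((yon S).map g' ≫ τ.q) fun i => ?_).unique h fun i => rfl
  rw [Functor.map_comp, Category.assoc, τ.w]

theorem exists_tup (hX : IsAlgSpace X) (hp : RepWith @Etale p) [IsSeparated U.hom] (n : ℕ) :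
    Nonempty (Tup p (n + 1)) := by
  induction n with
  | zero =>
    exact ⟨{ V := U, π := fun _ => 𝟙 U, q := p
             w := fun i => by rw [CategoryTheory.Functor.map_id, Category.id_comp]
             existsUnique := fun T f x hf => ⟨f 0, fun i => by rw [Category.comp_id, Fin.fin_one_eq_zero i],
               fun g hg => by rw [← hg 0, Category.comp_id]⟩
             etale := fun _ => inferInstanceAs (Etale (𝟙 U.left))
             sep := inferInstance
             etale_q := hp }⟩
  | succ n ih =>
    obtain ⟨τ⟩ := ih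
    obtain ⟨W, a, b, sq⟩ := exists_isPullback_yon p τ.q (hX.representable_from_yon p)
    haveI := τ.sep
    haveI hb : Etale b.left := (repWith_yon_map_iff (P := (@Etale : MorphismProperty Scheme.{u})) b).1
      (repWith_of_isPullback sq hp)
    haveI ha : Etale a.left := (repWith_yon_map_iff (P := (@Etale : MorphismProperty Scheme.{u})) a).1
      (repWith_of_isPullback sq.flip τ.etale_q)
    haveI hW : IsSeparated W.hom := by
      let m : W.left ⟶ pullback U.hom τ.V.hom := pullback.lift a.left b.left ((Over.w a).trans (Over.w b).symm)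
      haveI : Mono m := ⟨fun {T} g g' e => by
        have h₁ : g ≫ a.left = g' ≫ a.left := by
          simpa [m] using congrArg (fun t => t ≫ pullback.fst _ _) e
        have h₂ : g ≫ b.left = g' ≫ b.left := by
          simpa [m] using congrArg (fun t => t ≫ pullback.snd _ _) e
        have hw : g' ≫ W.hom = g ≫ W.hom := by
          rw [← Over.w b, ← Category.assoc, ← Category.assoc, h₂]
        let G : Over.mk (g ≫ W.hom) ⟶ W := Over.homMk g rfl
        let G' : Over.mk (g ≫ W.hom) ⟶ W := Over.homMk g' hw
        have : G = G' := (yon S).map_injective (sq.hom_ext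
          (by rw [← Functor.map_comp, ← Functor.map_comp]; exact congrArg (yon S).map (Over.OverMorphism.ext h₁))
          (by rw [← Functor.map_comp, ← Functor.map_comp]; exact congrArg (yon S).map (Over.OverMorphism.ext h₂)))
        exact congrArg (fun t => t.left) this⟩
      have e : m ≫ pullback.fst _ _ ≫ U.hom = W.hom := by
        rw [← Category.assoc, pullback.lift_fst]; exact Over.w a
      rw [← e]
      infer_instance
    refine ⟨{ V := W
              π := Fin.cases a fun i => b ≫ τ.π i
              q := (yon S).map a ≫ p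
              w := Fin.cases rfl fun i => ?hwπ
              existsUnique := fun T f x hf => ?eu
              etale := Fin.cases ha fun i => ?et
              sep := hW
              etale_q := repWith_comp ((repWith_yon_map_iff (P := (@Etale : MorphismProperty Scheme.{u})) a).2 ha) hp }⟩
    case hwπ => rw [Fin.cases_succ, Functor.map_comp, Category.assoc, τ.w, ← sq.w]
    case eu =>
      obtain ⟨g, hg, hu⟩ := τ.existsUnique T (fun i => f i.succ) x fun i => hf _
      obtain ⟨k, hk⟩ := (yon S).map_surjective (sq.lift ((yon S).map (f 0)) ((yon S).map g) (by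
        rw [hf, ← τ.w 0, ← Functor.map_comp_assoc, hg, hf]))
      have hka : k ≫ a = f 0 := (yon S).map_injective (by rw [Functor.map_comp, hk, sq.lift_fst])
      have hkb : k ≫ b = g := (yon S).map_injective (by rw [Functor.map_comp, hk, sq.lift_snd])
      refine ⟨k, Fin.cases hka fun i => by rw [Fin.cases_succ, ← Category.assoc, hkb, hg], fun k' hk' => ?_⟩
      refine (yon S).map_injective (sq.hom_ext ?_ ?_)
      · rw [← Functor.map_comp, ← Functor.map_comp, hka]
        exact congrArg (yon S).map (hk' 0)
      · rw [← Functor.map_comp, ← Functor.map_comp, hkb]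
        refine congrArg (yon S).map (hu _ fun i => ?_)
        have := hk' i.succ
        rw [Fin.cases_succ] at this
        rw [Category.assoc, this]
    case et =>
      rw [Fin.cases_succ, Over.comp_left]
      haveI := τ.etale i
      infer_instance

variable {n : ℕ} (τ : Tup p (n + 1))

/-- Permutation of the entries. -/
def Tup.act (σ : Equiv.Perm (Fin (n + 1))) : τ.V ⟶ τ.V :=
  (τ.existsUnique τ.V (fun i => τ.π (σ i)) τ.q fun i => τ.w (σ i)).exists.choose

@[simp, reassoc] theorem Tup.act_π (σ : Equiv.Perm (Fin (n + 1))) (i : Fin (n + 1)) :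
    τ.act σ ≫ τ.π i = τ.π (σ i) :=
  (τ.existsUnique τ.V (fun i => τ.π (σ i)) τ.q fun i => τ.w (σ i)).exists.choose_spec i

theorem Tup.act_q (σ : Equiv.Perm (Fin (n + 1))) : (yon S).map (τ.act σ) ≫ τ.q = τ.q := by
  rw [← τ.w 0, ← Functor.map_comp_assoc, τ.act_π, τ.w, τ.w]

theorem Tup.act_one : τ.act 1 = 𝟙 τ.V := τ.hom_ext fun i => by simp

theorem Tup.act_mul (σ σ' : Equiv.Perm (Fin (n + 1))) : τ.act (σ * σ') = τ.act σ ≫ τ.act σ' :=
  τ.hom_ext fun i => by simp [Category.assoc]

variable [IsSeparated U.hom]

/-- Where two entries agree. -/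
def Tup.eqSet (i j : Fin (n + 1)) : Set τ.V.left := Set.range (equalizer.ι (τ.π i) (τ.π j)).left

theorem Tup.isClosed_eqSet (i j : Fin (n + 1)) : IsClosed (τ.eqSet i j) :=
  (equalizer.ι (τ.π i) (τ.π j)).left.isClosedEmbedding.isClosed_range

/-- The tuples with two equal entries. -/
def Tup.badSet : Set τ.V.left :=
  ⋃ ij : {ij : Fin (n + 1) × Fin (n + 1) // ij.1 ≠ ij.2}, τ.eqSet ij.1.1 ij.1.2

theorem Tup.isClosed_badSet : IsClosed τ.badSet :=
  isClosed_iUnion_of_finite fun ij => τ.isClosed_eqSet ij.1.1 ij.1.2

/-- The open subscheme of tuples with distinct entries. -/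
def Tup.D : τ.V.left.Opens := ⟨τ.badSetᶜ, τ.isClosed_badSet.isOpen_compl⟩

/-- Points with distinct entries. -/
theorem Tup.mem_D_iff {K : Type u} [Field K] (ξ : Spec (CommRingCat.of K) ⟶ τ.V.left) :
    ξ (IsLocalRing.closedPoint K) ∈ τ.D ↔ Function.Injective fun i => ξ ≫ (τ.π i).left := by
  have hxi : ∀ i j, ξ (IsLocalRing.closedPoint K) ∈ τ.eqSet i j ↔ ξ ≫ (τ.π i).left = ξ ≫ (τ.π j).left := by
    intro i j
    let e := equalizer.ι (τ.π i) (τ.π j)
    have he : e.left ≫ (τ.π i).left = e.left ≫ (τ.π j).left :=
      congrArg (fun t => t.left) (equalizer.condition (τ.π i) (τ.π j))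
    constructor
    · rintro ⟨y, hy⟩
      haveI : Surjective (pullback.snd e.left ξ) := ⟨fun z => by
        haveI : Subsingleton ↥(Spec (CommRingCat.of K)) := inferInstanceAs (Subsingleton (PrimeSpectrum K))
        obtain ⟨w, hw⟩ := Scheme.Pullback.exists_preimage_pullback (f := e.left) (g := ξ) y (IsLocalRing.closedPoint K) hy
        exact ⟨w, Subsingleton.elim _ _⟩⟩
      haveI : IsClosedImmersion (pullback.snd e.left ξ) := inferInstance
      haveI : IsIso (pullback.snd e.left ξ) := isIso_of_isClosedImmersion_of_surjective _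
      rw [← cancel_epi (pullback.snd e.left ξ), ← pullback.condition_assoc, ← pullback.condition_assoc, he]
    · intro h
      let ξ' : Over.mk (ξ ≫ τ.V.hom) ⟶ τ.V := Over.homMk ξ rfl
      refine ⟨(equalizer.lift ξ' (Over.OverMorphism.ext h)).left (IsLocalRing.closedPoint K), ?_⟩
      rw [← Scheme.Hom.comp_apply, ← Over.comp_left, equalizer.lift_ι]
      rfl
  change ξ (IsLocalRing.closedPoint K) ∈ τ.badSetᶜ ↔ _
  unfold Tup.badSet
  simp only [Set.mem_compl_iff, Set.mem_iUnion, not_exists, Subtype.forall, hxi, Prod.forall]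
  exact ⟨fun h i j e => by_contra fun hne => h i j hne e, fun h i j hne e => hne (h e)⟩

theorem Tup.act_mem_D {σ : Equiv.Perm (Fin (n + 1))} {x : τ.V.left} (hx : x ∈ τ.D) :
    (τ.act σ).left x ∈ τ.D := by
  let ξ := τ.V.left.fromSpecResidueField x
  have h1 : ξ (IsLocalRing.closedPoint _) = x := Scheme.fromSpecResidueField_apply ..
  have h2 := (τ.mem_D_iff ξ).1 (h1.symm ▸ hx)
  have h3 : Function.Injective fun i => (ξ ≫ (τ.act σ).left) ≫ (τ.π i).left := by
    intro i j e
    refine σ.injective (h2 ?_)
    simpa only [Category.assoc, ← Over.comp_left, τ.act_π] using e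
  have h4 := (τ.mem_D_iff (ξ ≫ (τ.act σ).left)).2 h3
  rw [Scheme.Hom.comp_apply] at h4; erw [h1] at h4; exact h4

end MultiSecLib
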